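import Groth.Agent.Sga4B.DualLoc
import Groth.Agent.Sga4B.PBCNat
import Groth.Agent.Sga4B.SuppPull
import Groth.Agent.EtpbcB.SurjFaithful
import Groth.Agent.Etcore.ShriekBaseChange
import Groth.Agent.Etbase.EtGlue

/-!
# Relative local effaceability (PD4 of S3727): maps `L[V] ⟶ L[U]` which are zero on geometric fibres

* `FZ n a q g`: `H^q(P_ξ, L[V_ξ]) ⟶ H^q(P_ξ, L[U_ξ])` is zero for all geometric points `ξ` of `S`,
  for `a : P ⟶ S`, `g : V ⟶ U` étale over `P`.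
* `FZ.iff_Rpush`: for `a` proper this means `R^q a_* L[V] ⟶ R^q a_* L[U]` is zero.
* `FZ.bc`: stability under base change; `FZ.transfer`: independence of the proper target;
  `FZ.openBase`: extension along an open immersion of the base.
-/

set_option autoImplicit false
universe u

open CategoryTheory CategoryTheory.Limits AlgebraicGeometry Opposite

namespace Groth.Agent.Etdl.H420.FibZero

open Groth.Agent Groth.Agent.Sga4B DualShape

/-- `H^q(Y, L[V]) ⟶ H^q(Y, L[U])` is zero. -/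
def HZ (n q : ℕ) {Y : Scheme.{u}} {V U : Y.Etale} (g : V ⟶ U) : Prop :=
  (JF Y (ZMod n) ⋙ EtCoh.HF Y q).map g = 0

theorem HZ_iff (n q : ℕ) {Y : Scheme.{u}} {V U : Y.Etale} (g : V ⟶ U) :
    HZ n q g ↔ HLS n q g = 0 := Iff.rfl

section Basic

variable {n q : ℕ}

theorem map_eq_zero_of_iso {C D E : Type*} [Category* C] [Category* D] [Category* E]
    [HasZeroMorphisms E] {F G : C ⥤ D} (α : F ≅ G) (H : D ⥤ E) {V U : C} (g : V ⟶ U)
    (h : H.map (F.map g) = 0) : H.map (G.map g) = 0 := by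
  have h1 : G.map g = α.inv.app V ≫ F.map g ≫ α.hom.app U := by
    rw [α.hom.naturality g, α.inv_hom_id_app_assoc]
  rw [h1, H.map_comp, H.map_comp, h, zero_comp, comp_zero]

theorem HZ.of_iso {C : Type*} [Category* C] {Y : Scheme.{u}} {F G : C ⥤ Y.Etale} (α : F ≅ G)
    {V U : C} {g : V ⟶ U} (h : HZ n q (F.map g)) : HZ n q (G.map g) :=
  map_eq_zero_of_iso α _ g h

theorem HZ.comp_left {Y : Scheme.{u}} {W V U : Y.Etale} {g : V ⟶ U} (h : HZ n q g) (k : W ⟶ V) :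
    HZ n q (k ≫ g) := by
  unfold HZ at h ⊢
  rw [Functor.map_comp, h, comp_zero]

theorem HZ.comp_right {Y : Scheme.{u}} {W V U : Y.Etale} {g : V ⟶ U} (h : HZ n q g) (k : U ⟶ W) :
    HZ n q (g ≫ k) := by
  unfold HZ at h ⊢
  rw [Functor.map_comp, h, zero_comp]

end Basic

/-- `H^q(P_ξ, L[V_ξ]) ⟶ H^q(P_ξ, L[U_ξ])` is zero for all geometric points `ξ` of `S`. -/
def FZ (n : ℕ) {P S : Scheme.{u}} (a : P ⟶ S) (q : ℕ) {V U : P.Etale} (g : V ⟶ U) : Prop :=
  ∀ (K : Type u) [Field K] [IsAlgClosed K] (ξ : Spec (CommRingCat.of K) ⟶ S) (Y : Scheme.{u})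
    (h : Y ⟶ P) (e : Y ⟶ Spec (CommRingCat.of K)), IsPullback h e a ξ →
      HZ n q ((EtCoh.bc h).map g)

section Rpush

variable {n : ℕ} {P S : Scheme.{u}} (a : P ⟶ S) {q : ℕ} {V U : P.Etale} (g : V ⟶ U)

/-- `L[V ×_P Y] ⟶ L[U ×_P Y]` is the pullback of `L[V] ⟶ L[U]`. -/
theorem HZ_bc_iff {Y : Scheme.{u}} (h : Y ⟶ P) :
    HZ n q ((EtCoh.bc h).map g) ↔ (EtCoh.HF Y q).map ((EtCoh.pull h).map (LSmap n g)) = 0 :=
  ⟨fun h0 => map_eq_zero_of_iso (JFComp.pullIso (ZMod n) h).symm (EtCoh.HF Y q) g h0,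
    fun h0 => map_eq_zero_of_iso (JFComp.pullIso (ZMod n) h) (EtCoh.HF Y q) g h0⟩

/-- For `a` proper, `FZ` means that `R^q a_* L[V] ⟶ R^q a_* L[U]` is zero. -/
theorem FZ_iff_Rpush [IsProper a] (hn : 0 < n) :
    FZ n a q g ↔ (EtCoh.Rpush a q).map (LSmap n g) = 0 := by
  have hV := JFComp.isTorsion_of_killedBy hn (JFComp.killedBy_LS n V)
  have hU := JFComp.isTorsion_of_killedBy hn (JFComp.killedBy_LS n U)
  constructor
  · intro h
    refine EtpbcB.SurjFaithful.hom_ext_of_stalk _ _ fun s => ?_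
    obtain ⟨Ω, _, _, ξ, hξ⟩ := SuppPull.exists_geom S s
    refine ⟨Ω, inferInstance, inferInstance, ξ, hξ, ?_⟩
    rw [Functor.map_zero]
    refine (PBCNat.stalk_map_eq_zero_iff (IsPullback.of_hasPullback a ξ) q hV hU (LSmap n g)).2 ?_
    exact (HZ_bc_iff g _).1 (h Ω ξ _ _ _ (IsPullback.of_hasPullback a ξ))
  · intro h K _ _ ξ Y k e sq
    rw [HZ_bc_iff]
    refine (PBCNat.stalk_map_eq_zero_iff sq q hV hU (LSmap n g)).1 ?_
    rw [h, Functor.map_zero]

end Rpush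

section Basic2

variable {n q : ℕ} {P S : Scheme.{u}} {a : P ⟶ S}

theorem FZ.comp_left {W V U : P.Etale} {g : V ⟶ U} (h : FZ n a q g) (k : W ⟶ V) :
    FZ n a q (k ≫ g) := fun K _ _ ξ Y c e sq => by
  rw [Functor.map_comp]
  exact (h K ξ Y c e sq).comp_left _

theorem FZ.comp_right {W V U : P.Etale} {g : V ⟶ U} (h : FZ n a q g) (k : U ⟶ W) :
    FZ n a q (g ≫ k) := fun K _ _ ξ Y c e sq => by
  rw [Functor.map_comp]
  exact (h K ξ Y c e sq).comp_right _

theorem FZ.of_iso {C : Type*} [Category* C] {F G : C ⥤ P.Etale} (α : F ≅ G)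
    {V U : C} {g : V ⟶ U} (h : FZ n a q (F.map g)) : FZ n a q (G.map g) :=
  fun K _ _ ξ Y c e sq =>
    HZ.of_iso (F := F ⋙ EtCoh.bc c) (G := G ⋙ EtCoh.bc c) (Functor.isoWhiskerRight α _)
      (h K ξ Y c e sq)

/-- Stability under base change. -/
theorem FZ.bc {P' S' : Scheme.{u}} {a' : P' ⟶ S'} {h' : P' ⟶ P} {σ : S' ⟶ S}
    (sq' : IsPullback h' a' a σ) {V U : P.Etale} {g : V ⟶ U} (h : FZ n a q g) :
    FZ n a' q ((EtCoh.bc h').map g) := fun K _ _ ξ Y c e sq => by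
  have h1 := h K (ξ ≫ σ) Y (c ≫ h') e (sq.paste_horiz sq')
  exact HZ.of_iso (F := EtCoh.bc (c ≫ h')) (G := EtCoh.bc h' ⋙ EtCoh.bc c)
    (MorphismProperty.Over.pullbackComp (P := EtCoh.etaleMP) (Q := ⊤) c h') h1

end Basic2

section Transfer

variable {X P Q S : Scheme.{u}} (i : X ⟶ P) (w : X ⟶ Q) (a : P ⟶ S) (b : Q ⟶ S)
  (hw : i ≫ a = w ≫ b) [Etale i] [IsSeparated i] [Etale w] [IsSeparated w]
  [IsProper a] [IsProper b] {n : ℕ} (hn : 0 < n) {q : ℕ}

/-- The case of a fibre. -/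
theorem HZ.transfer {V U : X.Etale} (g : V ⟶ U)
    (hw : i ≫ a = w ≫ b) (hn : 0 < n)
    (h : HZ n q ((EtShriek.compEtale w).map g)) : HZ n q ((EtShriek.compEtale i).map g) := by
  have α := DualLoc.jfCmpIso w i b a hw.symm n hn q
  exact map_eq_zero_of_iso (F := EtShriek.compEtale w ⋙ JF Q (ZMod n) ⋙ EtCoh.HF Q q)
    (G := EtShriek.compEtale i ⋙ JF P (ZMod n) ⋙ EtCoh.HF P q) α (𝟭 _) g h

include hw hn in
/-- `FZ` is independent of the proper target. -/
theorem FZ.transfer {V U : X.Etale} (g : V ⟶ U)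
    (h : FZ n b q ((EtShriek.compEtale w).map g)) :
    FZ n a q ((EtShriek.compEtale i).map g) := fun K _ _ ξ Y c e sq => by
  let Z : Scheme.{u} := pullback b ξ
  let cZ : Z ⟶ Q := pullback.fst b ξ
  let eZ : Z ⟶ Spec (CommRingCat.of K) := pullback.snd b ξ
  have sqZ : IsPullback cZ eZ b ξ := IsPullback.of_hasPullback b ξ
  let X' : Scheme.{u} := pullback i c
  let x : X' ⟶ X := pullback.fst i c
  let i' : X' ⟶ Y := pullback.snd i c
  have sqX : IsPullback x i' i c := IsPullback.of_hasPullback i c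
  have hx : x ≫ w ≫ b = (i' ≫ e) ≫ ξ := by
    rw [← hw, sqX.w_assoc, Category.assoc, sq.w]
  let w' : X' ⟶ Z := sqZ.lift (x ≫ w) (i' ≫ e) (by rw [Category.assoc]; exact hx)
  have hw1 : w' ≫ cZ = x ≫ w := sqZ.lift_fst _ _ _
  have hw2 : w' ≫ eZ = i' ≫ e := sqZ.lift_snd _ _ _
  have big : IsPullback (w' ≫ eZ) x ξ (w ≫ b) := by
    rw [hw2, ← hw]
    exact sqX.flip.paste_horiz sq.flip
  have sqW : IsPullback w' x cZ w := IsPullback.of_right big hw1 sqZ.flip
  have : Etale i' := MorphismProperty.of_isPullback sqX inferInstance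
  have : IsSeparated i' := MorphismProperty.of_isPullback sqX inferInstance
  have : Etale w' := MorphismProperty.of_isPullback sqW.flip inferInstance
  have : IsSeparated w' := MorphismProperty.of_isPullback sqW.flip inferInstance
  have : IsProper e := MorphismProperty.of_isPullback sq inferInstance
  have h1 : HZ n q ((EtShriek.compEtale w').map ((EtCoh.bc x).map g)) :=
    HZ.of_iso (F := EtShriek.compEtale w ⋙ EtCoh.bc cZ)
      (G := EtCoh.bc x ⋙ EtShriek.compEtale w')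
      (Etcore.ShriekBaseChange.bcCompIso w cZ w' x sqW).symm (h K ξ Z cZ eZ sqZ)
  have h2 : HZ n q ((EtShriek.compEtale i').map ((EtCoh.bc x).map g)) :=
    HZ.transfer i' w' e eZ _ hw2.symm hn h1
  exact HZ.of_iso (F := EtCoh.bc x ⋙ EtShriek.compEtale i')
    (G := EtShriek.compEtale i ⋙ EtCoh.bc c)
    (Etcore.ShriekBaseChange.bcCompIso i c i' x sqX.flip) h2

end Transfer

section OpenBase

variable {n q : ℕ} {P S P₁ S₁ : Scheme.{u}} {a : P ⟶ S} {a₁ : P₁ ⟶ S₁} {o' : P₁ ⟶ P}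
  {o : S₁ ⟶ S} [IsOpenImmersion o] [Etale o']

/-- `L[∅] = 0`. -/
theorem HZ.of_isEmpty {Y : Scheme.{u}} {V U : Y.Etale} (g : V ⟶ U) (h : IsEmpty V.left) :
    HZ n q g := by
  have h0 : IsZero ((JF Y (ZMod n)).obj V) := by
    rw [IsZero.iff_id_eq_zero]
    have := Etbase.EtGlue.subsingleton_of_isEmpty ((JF Y (ZMod n)).obj V) V
    exact EtpbcA.Jshriek.hom_ext V (fun m => Subsingleton.elim _ _)
  have : (EtCoh.HF Y q).Additive := inferInstanceAs (Sheaf.functorH _ q).Additive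
  unfold HZ
  exact ((EtCoh.HF Y q).map_isZero h0).eq_of_src _ _

/-- `compEtale (𝟙 Y)` is the identity. -/
noncomputable def compId (Y : Scheme.{u}) : 𝟭 Y.Etale ≅ EtShriek.compEtale (𝟙 Y) :=
  NatIso.ofComponents (fun V => MorphismProperty.Over.isoMk (Iso.refl _)
    ((Category.id_comp (V.hom ≫ 𝟙 Y)).trans (Category.comp_id V.hom)))
    (fun {V W} g => MorphismProperty.Over.Hom.ext
      ((Category.comp_id g.left).trans (Category.id_comp g.left).symm))

/-- Extension along an open immersion of the base. -/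
theorem FZ.openBase (sq' : IsPullback o' a₁ a o) {V U : P₁.Etale} (g : V ⟶ U)
    (h : FZ n a₁ q g) : FZ n a q ((EtShriek.compEtale o').map g) := fun K _ _ ξ Y c e sq => by
  have ho' : IsOpenImmersion o' := MorphismProperty.of_isPullback sq'.flip inferInstance
  by_cases hξ : ξ default ∈ Set.range o
  · have hr : Set.range ξ ⊆ Set.range o := by
      rintro _ ⟨y, rfl⟩
      rwa [Subsingleton.elim y default]
    let ξ₁ : Spec (CommRingCat.of K) ⟶ S₁ := IsOpenImmersion.lift o ξ hr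
    have hξ₁ : ξ₁ ≫ o = ξ := IsOpenImmersion.lift_fac o ξ hr
    let c' : Y ⟶ P₁ := sq'.lift c (e ≫ ξ₁) (by rw [Category.assoc, hξ₁, sq.w])
    have hc' : c' ≫ o' = c := sq'.lift_fst _ _ _
    have hc'' : c' ≫ a₁ = e ≫ ξ₁ := sq'.lift_snd _ _ _
    have sq1 : IsPullback c' e a₁ ξ₁ := by
      refine IsPullback.of_right (h₁₂ := o') (v₁₃ := a) (h₂₂ := o) ?_ hc'' sq'
      rw [hc', hξ₁]
      exact sq
    have sq2 : IsPullback (𝟙 Y) c' c o' := by
      have h1 : IsPullback (𝟙 Y) c' c' (𝟙 P₁) := IsPullback.of_horiz_isIso ⟨by simp⟩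
      have h2 := h1.paste_vert (IsKernelPair.id_of_mono o')
      rw [Category.comp_id, hc'] at h2
      exact h2
    refine HZ.of_iso (F := EtCoh.bc c' ⋙ EtShriek.compEtale (𝟙 Y))
      (G := EtShriek.compEtale o' ⋙ EtCoh.bc c)
      (Etcore.ShriekBaseChange.bcCompIso o' c (𝟙 Y) c' sq2) ?_
    exact HZ.of_iso (F := 𝟭 _) (compId Y) (h K ξ₁ Y c' e sq1)
  · refine HZ.of_isEmpty _ ⟨fun y => hξ ?_⟩
    let p1 : ((EtCoh.bc c).obj ((EtShriek.compEtale o').obj V)).left ⟶ V.left :=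
      pullback.fst (V.hom ≫ o') c
    let p2 : ((EtCoh.bc c).obj ((EtShriek.compEtale o').obj V)).left ⟶ Y :=
      pullback.snd (V.hom ≫ o') c
    have hp : p1 ≫ V.hom ≫ o' = p2 ≫ c := pullback.condition
    have hp' : (p1 ≫ V.hom ≫ a₁) ≫ o = (p2 ≫ e) ≫ ξ := by
      rw [Category.assoc, Category.assoc, ← sq'.w, Category.assoc, ← sq.w, ← reassoc_of% hp]
    refine ⟨(p1 ≫ V.hom ≫ a₁) y, ?_⟩
    rw [← Scheme.Hom.comp_apply, hp', Scheme.Hom.comp_apply]
    exact congrArg _ (Subsingleton.elim _ _)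

end OpenBase

end Groth.Agent.Etdl.H420.FibZero
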